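import Groth.Agent.Lib.Olivier.Normal
import Groth.Agent.Lib.WeakEtale.Basic
import Groth.Agent.Lib.Hensel.Local
import Mathlib.FieldTheory.IsAlgClosed.AlgebraicClosure
import Mathlib.RingTheory.Algebraic.Integral
import Mathlib.RingTheory.Flat.FaithfullyFlat.Basic
import Mathlib.RingTheory.Ideal.GoingDown

/-!
# Olivier's theorem
-/

set_option autoImplicit false

universe u

open TensorProduct

namespace GrothLib.Olivier

theorem regular_of_weaklyEtale_field (K L : Type u) [Field K] [CommRing L] [Algebra K L]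
    [Algebra.WeaklyEtale K L] : Groth.Agent.AbsFlat.Regular L := by
  refine Groth.Agent.AbsFlat.regular_of_forall_flat fun M _ _ => ?_
  letI : Module K M := Module.compHom M (algebraMap K L)
  haveI : IsScalarTower K L M := IsScalarTower.of_algebraMap_smul fun _ _ => rfl
  exact Groth.Agent.AbsFlat.flat_of_flat_lmul (Algebra.WeaklyEtale.flat_lmul' K L) M

/-- A connected weakly étale algebra over a separably closed field is trivial. -/
theorem algebraMap_surjective_of_connected (K L : Type u) [Field K] [IsSepClosed K] [CommRing L]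
    [Nontrivial L] [Algebra K L] [Algebra.WeaklyEtale K L]
    (h : ∀ e : L, IsIdempotentElem e → e = 0 ∨ e = 1) : Function.Surjective (algebraMap K L) := by
  have hreg := regular_of_weaklyEtale_field K L
  have hf : IsField L := by
    refine ⟨⟨0, 1, zero_ne_one⟩, mul_comm, fun {a} ha => ?_⟩
    obtain ⟨x, hx⟩ := hreg a
    rcases h (a * x) (show a * x * (a * x) = a * x by linear_combination x * hx) with h' | h'
    · exact absurd (by linear_combination -hx + a * h') ha
    · exact ⟨x, h'⟩
  letI := hf.toField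
  haveI := GrothLib.WeakEtale.isSeparable_of_weaklyEtale (K := K) (L := L)
  exact IsSepClosed.algebraMap_surjective K L

theorem isLocalRing_integralClosure (A : Type u) [CommRing A] [HenselianLocalRing A] {K : Type u}
    [Field K] [Algebra A K] : IsLocalRing (integralClosure A K) := by
  refine IsLocalRing.of_isUnit_or_isUnit_one_sub_self fun x => ?_
  let D : Subalgebra A K := Algebra.adjoin A {(x : K)}
  haveI : Module.Finite A D := Module.Finite.iff_fg.2 x.2.fg_adjoin_singleton
  obtain ⟨_, e, he, hnot, -, -⟩ :=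
    GrothLib.Hensel.exists_completeOrthogonalIdempotents_isLocalRing (R := A) (S := D)
  have hone : ∀ i, e i = 1 := fun i => (IsIdempotentElem.iff_eq_zero_or_one.1 (he.idem i)).resolve_left
    fun h0 => hnot i (h0 ▸ Ideal.zero_mem _)
  haveI : Subsingleton (MaximalSpectrum D) := ⟨fun i j => by
    by_contra hij
    have := he.ortho hij
    change e i * e j = 0 at this
    rw [hone, hone, one_mul] at this
    exact one_ne_zero this⟩
  obtain ⟨M₀, hM₀⟩ := Ideal.exists_maximal D
  haveI : IsLocalRing D := IsLocalRing.of_unique_max_ideal ⟨M₀, hM₀, fun M hM =>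
    congrArg MaximalSpectrum.asIdeal (Subsingleton.elim (⟨M, hM⟩ : MaximalSpectrum D) ⟨M₀, hM₀⟩)⟩
  let x' : D := ⟨x, Algebra.subset_adjoin (Set.mem_singleton _)⟩
  have hle : D ≤ integralClosure A K := Algebra.adjoin_le (Set.singleton_subset_iff.2 x.2)
  let ι := Subalgebra.inclusion hle
  rcases IsLocalRing.isUnit_or_isUnit_one_sub_self x' with h | h
  · left
    have := h.map ι
    exact this
  · right
    have := h.map ι
    rwa [map_sub, map_one] at this

variable (A B : Type u) [CommRing A] [CommRing B] [HenselianLocalRing A] [IsLocalRing B] [Algebra A B]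
  [IsLocalHom (algebraMap A B)] [Algebra.WeaklyEtale A B]

include A in
theorem exists_decomp [IsSepClosed (IsLocalRing.ResidueField A)] (b : B) :
    ∃ a : A, b - algebraMap A B a ∈ (IsLocalRing.maximalIdeal A).map (algebraMap A B) := by
  let m := IsLocalRing.maximalIdeal A
  let k := IsLocalRing.ResidueField A
  haveI : Module.FaithfullyFlat A B := Module.FaithfullyFlat.of_flat_of_isLocalHom
  haveI : Nontrivial (k ⊗[A] B) := inferInstance
  have hloc : IsLocalRing (k ⊗[A] B) := by
    refine IsLocalRing.of_surjective' (Algebra.TensorProduct.includeRight : B →ₐ[A] k ⊗[A] B).toRingHom ?_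
    intro z
    induction z with
    | zero => exact ⟨0, map_zero _⟩
    | tmul c x =>
      obtain ⟨a, rfl⟩ := IsLocalRing.residue_surjective c
      exact ⟨a • x, by
        show (1 : k) ⊗ₜ[A] (a • x) = _
        rw [tmul_smul, smul_tmul']
        congr 1
        exact (Algebra.algebraMap_eq_smul_one a).symm⟩
    | add x y hx hy =>
      obtain ⟨u, rfl⟩ := hx
      obtain ⟨v, rfl⟩ := hy
      exact ⟨u + v, map_add _ _ _⟩
  obtain ⟨c, hc⟩ := algebraMap_surjective_of_connected k (k ⊗[A] B) (fun e he => by
    rcases IsLocalRing.isUnit_or_isUnit_one_sub_self e with h | h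
    · exact Or.inr ((IsIdempotentElem.iff_eq_one_of_isUnit h).1 he)
    · exact Or.inl (by simpa using (IsIdempotentElem.iff_eq_one_of_isUnit h).1 he.one_sub))
    ((1 : k) ⊗ₜ[A] b)
  obtain ⟨a, rfl⟩ := IsLocalRing.residue_surjective c
  refine ⟨a, ?_⟩
  let q : k ⊗[A] B →ₐ[A] B ⧸ m.map (algebraMap A B) := Algebra.TensorProduct.lift
    { Ideal.Quotient.lift m ((Ideal.Quotient.mk (m.map (algebraMap A B))).comp (algebraMap A B))
        fun y hy => Ideal.Quotient.eq_zero_iff_mem.2 (Ideal.mem_map_of_mem _ hy) with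
      commutes' := fun y => rfl }
    (Ideal.Quotient.mkₐ A _) fun _ _ => Commute.all _ _
  have h := congrArg q hc
  rw [Algebra.TensorProduct.algebraMap_apply, Algebra.TensorProduct.lift_tmul,
    Algebra.TensorProduct.lift_tmul, map_one, map_one, mul_one, one_mul] at h
  exact (Ideal.Quotient.eq).1 h.symm

variable [IsSepClosed (IsLocalRing.ResidueField A)]

theorem isLocalRing_baseChange {K : Type u} [Field K] [Algebra A K] :
    IsLocalRing (integralClosure A K ⊗[A] B) := by
  haveI : Module.FaithfullyFlat A B := Module.FaithfullyFlat.of_flat_of_isLocalHom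
  haveI := isLocalRing_integralClosure A (K := K)
  let S := integralClosure A K
  let T := S ⊗[A] B
  haveI : Nontrivial T := inferInstance
  letI : Algebra B T := Algebra.TensorProduct.rightAlgebra
  haveI : IsScalarTower A B T := IsScalarTower.of_algebraMap_eq fun a =>
    (Algebra.TensorProduct.includeRight (R := A) (A := S)).commutes a |>.symm
  have hint : ∀ z : T, IsIntegral B z := fun z => by
    induction z using TensorProduct.induction_on with
    | zero => exact isIntegral_zero
    | tmul s x =>
      rw [show s ⊗ₜ[A] x = (s ⊗ₜ[A] (1 : B)) * algebraMap B T x by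
        rw [Algebra.TensorProduct.right_algebraMap_apply, Algebra.TensorProduct.tmul_mul_tmul, mul_one, one_mul]]
      have h1 : IsIntegral A s := (isIntegral_algHom_iff S.val Subtype.val_injective).1 s.2
      exact ((h1.map (Algebra.TensorProduct.includeLeft (R := A) (S := A) (B := B))).tower_top).mul
        isIntegral_algebraMap
    | add x y hx hy => exact hx.add hy
  haveI : Algebra.IsIntegral B T := ⟨hint⟩
  have hmax : ∀ M : Ideal T, M.IsMaximal → ∀ y ∈ (IsLocalRing.maximalIdeal A).map (algebraMap A B),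
      algebraMap B T y ∈ M := by
    intro M hM y hy
    have h1 : (M.comap (algebraMap B T)) = IsLocalRing.maximalIdeal B :=
      IsLocalRing.eq_maximalIdeal (Ideal.isMaximal_comap_of_isIntegral_of_isMaximal (R := B) M)
    have h2 : y ∈ IsLocalRing.maximalIdeal B :=
      ((IsLocalRing.local_hom_TFAE (algebraMap A B)).out 0 2 rfl rfl).1 ‹_› hy
    rw [← h1] at h2
    exact h2
  have hdecomp : ∀ z : T, ∃ s : S, ∀ M : Ideal T, M.IsMaximal → z - s ⊗ₜ[A] (1 : B) ∈ M := by
    intro z
    induction z using TensorProduct.induction_on with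
    | zero => exact ⟨0, fun M _ => by simp⟩
    | tmul s x =>
      obtain ⟨a, ha⟩ := exists_decomp A B x
      refine ⟨a • s, fun M hM => ?_⟩
      rw [smul_tmul, ← tmul_sub, ← Algebra.algebraMap_eq_smul_one,
        show s ⊗ₜ[A] (x - algebraMap A B a) = (s ⊗ₜ[A] (1 : B)) * algebraMap B T (x - algebraMap A B a) by
          rw [Algebra.TensorProduct.right_algebraMap_apply, Algebra.TensorProduct.tmul_mul_tmul, mul_one, one_mul]]
      exact M.mul_mem_left _ (hmax M hM _ ha)
    | add x y hx hy =>
      obtain ⟨s, hs⟩ := hx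
      obtain ⟨t, ht⟩ := hy
      refine ⟨s + t, fun M hM => ?_⟩
      rw [add_tmul, show x + y - (s ⊗ₜ[A] (1 : B) + t ⊗ₜ[A] (1 : B)) =
        (x - s ⊗ₜ[A] (1 : B)) + (y - t ⊗ₜ[A] (1 : B)) by ring]
      exact M.add_mem (hs M hM) (ht M hM)
  refine IsLocalRing.of_isUnit_or_isUnit_one_sub_self fun z => ?_
  obtain ⟨s, hs⟩ := hdecomp z
  let inc : S →ₐ[A] T := Algebra.TensorProduct.includeLeft
  rcases IsLocalRing.isUnit_or_isUnit_one_sub_self s with h | h
  · left
    by_contra hu
    obtain ⟨M, hM, hzM⟩ := exists_max_ideal_of_mem_nonunits hu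
    refine hM.ne_top (Ideal.eq_top_of_isUnit_mem _ (?_ : inc s ∈ M) (h.map inc))
    have h1 := M.sub_mem hzM (hs M hM)
    rw [sub_sub_cancel] at h1
    exact h1
  · right
    by_contra hu
    obtain ⟨M, hM, hzM⟩ := exists_max_ideal_of_mem_nonunits hu
    refine hM.ne_top (Ideal.eq_top_of_isUnit_mem _ (?_ : inc (1 - s) ∈ M) (h.map inc))
    have := M.add_mem hzM (hs M hM)
    rw [sub_add_sub_cancel] at this
    rw [map_sub, map_one]
    exact this

theorem surjective_fibre {K : Type u} [Field K] [IsAlgClosed K] [Algebra A K]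
    (halg : ∀ z : K, ∃ a : A, algebraMap A K a ≠ 0 ∧ IsIntegral A (a • z)) :
    Function.Surjective (algebraMap K (K ⊗[A] B)) := by
  haveI : Module.FaithfullyFlat A B := Module.FaithfullyFlat.of_flat_of_isLocalHom
  haveI : Nontrivial (K ⊗[A] B) := inferInstance
  let S := integralClosure A K
  haveI := isLocalRing_baseChange A B (K := K)
  let ι : S ⊗[A] B →ₐ[A] K ⊗[A] B := Algebra.TensorProduct.map S.val (AlgHom.id A B)
  have hι : Function.Injective ι :=
    Module.Flat.rTensor_preserves_injective_linearMap (M := B) S.val.toLinearMap Subtype.val_injective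
  have hex : ∀ z : K ⊗[A] B, ∃ (a : A) (z₀ : S ⊗[A] B), algebraMap A K a ≠ 0 ∧ a • z = ι z₀ := by
    intro z
    induction z with
    | zero => exact ⟨1, 0, by simp, by simp⟩
    | tmul c x =>
      obtain ⟨a, ha, hint⟩ := halg c
      exact ⟨a, (⟨a • c, hint⟩ : S) ⊗ₜ[A] x, ha, rfl⟩
    | add x y hx hy =>
      obtain ⟨a, x₀, ha, hx⟩ := hx
      obtain ⟨c, y₀, hc, hy⟩ := hy
      refine ⟨a * c, c • x₀ + a • y₀, by rw [map_mul]; exact mul_ne_zero ha hc, ?_⟩
      rw [map_add, map_smul, map_smul, ← hx, ← hy, smul_add, mul_comm a c, mul_smul, mul_smul,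
        smul_comm c a y]
  refine algebraMap_surjective_of_connected K (K ⊗[A] B) fun e he => ?_
  obtain ⟨a, b, ha, hb⟩ := hex e
  have hab : ι ((algebraMap A S a) ⊗ₜ[A] (1 : B)) = algebraMap A (K ⊗[A] B) a := rfl
  obtain ⟨b₀, hb₀⟩ := exists_eq_mul S (fun x hx => isIntegral_trans (R := A) (A := S) x hx) B
    (a := algebraMap A S a) (b := b) (fun h => ha (congrArg Subtype.val h)) (hι (by
      rw [map_mul, map_mul, hab, ← hb, Algebra.smul_def]
      linear_combination (algebraMap A (K ⊗[A] B) a * algebraMap A (K ⊗[A] B) a) * he.eq))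
  have hu : IsUnit (algebraMap A (K ⊗[A] B) a) := by
    rw [IsScalarTower.algebraMap_apply A K (K ⊗[A] B)]
    exact (Ne.isUnit ha).map _
  have he' : e = ι b₀ := hu.mul_left_cancel (by rw [← Algebra.smul_def, hb, hb₀, map_mul, hab])
  have hid : IsIdempotentElem b₀ := hι (by rw [map_mul, ← he', he.eq])
  rcases IsLocalRing.isUnit_or_isUnit_one_sub_self b₀ with h | h
  · exact Or.inr (by rw [he', (IsIdempotentElem.iff_eq_one_of_isUnit h).1 hid, map_one])
  · exact Or.inl (by rw [he', show b₀ = 0 by simpa using (IsIdempotentElem.iff_eq_one_of_isUnit h).1 hid.one_sub, map_zero])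

/-- Two maps to a field agree. -/
theorem algHom_field_eq {Ω : Type u} [Field Ω] [IsAlgClosed Ω] [Algebra A Ω] (f g : B →ₐ[A] Ω) : f = g := by
  let p : Ideal A := RingHom.ker (algebraMap A Ω)
  haveI : p.IsPrime := RingHom.ker_isPrime _
  let K := AlgebraicClosure p.ResidueField
  have halg : ∀ z : K, ∃ a : A, algebraMap A K a ≠ 0 ∧ IsIntegral A (a • z) := by
    intro z
    haveI : Algebra.IsAlgebraic (A ⧸ p) p.ResidueField :=
      IsLocalization.isAlgebraic p.ResidueField (nonZeroDivisors (A ⧸ p))
    haveI : Algebra.IsAlgebraic (A ⧸ p) K := Algebra.IsAlgebraic.trans (A ⧸ p) p.ResidueField K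
    obtain ⟨y, hy, hint⟩ := IsAlgebraic.exists_integral_multiple (Algebra.IsAlgebraic.isAlgebraic (R := A ⧸ p) z)
    obtain ⟨a, rfl⟩ := Ideal.Quotient.mk_surjective y
    refine ⟨a, fun h0 => hy ?_, ?_⟩
    · rw [IsScalarTower.algebraMap_apply A p.ResidueField K,
        map_eq_zero, Ideal.algebraMap_residueField_eq_zero] at h0
      exact Ideal.Quotient.eq_zero_iff_mem.2 h0
    · haveI : Algebra.IsIntegral A (A ⧸ p) := inferInstance
      have : a • z = (Ideal.Quotient.mk p a) • z := (algebraMap_smul (A ⧸ p) a z).symm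
      rw [this]
      exact isIntegral_trans _ hint
  letI : Algebra p.ResidueField Ω := (Ideal.ResidueField.lift p (algebraMap A Ω) (le_refl p) (fun x hx => by
    exact (Ne.isUnit fun h => hx h))).toAlgebra
  haveI : IsScalarTower A p.ResidueField Ω := IsScalarTower.of_algebraMap_eq fun a =>
    (Ideal.ResidueField.lift_algebraMap _ _ _ _ a).symm
  let j : K →ₐ[A] Ω := (IsAlgClosed.lift : K →ₐ[p.ResidueField] Ω).restrictScalars A
  let F : K ⊗[A] B →ₐ[A] Ω := Algebra.TensorProduct.lift j f fun _ _ => Commute.all _ _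
  let G : K ⊗[A] B →ₐ[A] Ω := Algebra.TensorProduct.lift j g fun _ _ => Commute.all _ _
  ext b
  obtain ⟨c, hc⟩ := surjective_fibre A B halg ((1 : K) ⊗ₜ[A] b)
  have hF := congrArg F hc
  have hG := congrArg G hc
  rw [Algebra.TensorProduct.algebraMap_apply] at hF hG
  simp only [F, G, Algebra.TensorProduct.lift_tmul, map_one, one_mul, mul_one, Algebra.algebraMap_self_apply] at hF hG
  exact hF.symm.trans hG

/-- Olivier's theorem. -/
theorem bijective : Function.Bijective (algebraMap A B) := by
  haveI : Module.FaithfullyFlat A B := Module.FaithfullyFlat.of_flat_of_isLocalHom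
  let μ := Algebra.TensorProduct.lmul' A (S := B)
  let D : Ideal (B ⊗[A] B) := RingHom.ker μ.toRingHom
  haveI : Module.Flat (B ⊗[A] B) ((B ⊗[A] B) ⧸ D) := by
    have hs : Function.Surjective μ.toRingHom := fun b => ⟨b ⊗ₜ 1, by simp [μ]⟩
    let e : (B ⊗[A] B ⧸ D) ≃+* B := RingHom.quotientKerEquivOfSurjective hs
    have : (Ideal.Quotient.mk D) = e.symm.toRingHom.comp μ.toRingHom := RingHom.ext fun z =>
      e.eq_symm_apply.mpr rfl
    rw [← RingHom.flat_algebraMap_iff, Ideal.Quotient.algebraMap_eq, this]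
    exact RingHom.Flat.comp (Algebra.WeaklyEtale.flat_lmul' A B) (RingHom.Flat.of_bijective e.symm.bijective)
  have hD : ∀ Q : Ideal (B ⊗[A] B), Q.IsPrime → D ≤ Q := by
    intro Q _ z hz
    let Ω := AlgebraicClosure Q.ResidueField
    let h : B ⊗[A] B →ₐ[A] Ω := IsScalarTower.toAlgHom A (B ⊗[A] B) Ω
    have he := algHom_field_eq A B (h.comp Algebra.TensorProduct.includeLeft)
      (h.comp Algebra.TensorProduct.includeRight)
    have hh : h = (h.comp Algebra.TensorProduct.includeLeft).comp μ := by
      refine Algebra.TensorProduct.ext' fun x y => ?_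
      have := AlgHom.congr_fun he y
      simp only [AlgHom.comp_apply, Algebra.TensorProduct.includeLeft_apply,
        Algebra.TensorProduct.includeRight_apply] at this
      simp only [AlgHom.comp_apply, μ, Algebra.TensorProduct.lmul'_apply_tmul,
        Algebra.TensorProduct.includeLeft_apply]
      rw [show (x * y) ⊗ₜ[A] (1 : B) = (x ⊗ₜ[A] (1 : B)) * (y ⊗ₜ[A] (1 : B)) by simp, map_mul, this,
        ← map_mul]
      simp
    have h0 : h z = 0 := by
      rw [hh, AlgHom.comp_apply, show μ z = 0 from hz, map_zero]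
    rw [IsScalarTower.toAlgHom_apply, IsScalarTower.algebraMap_apply (B ⊗[A] B) Q.ResidueField Ω,
      map_eq_zero, Ideal.algebraMap_residueField_eq_zero] at h0
    exact h0
  have hzero : ∀ z ∈ D, z = 0 := by
    intro z hz
    obtain ⟨d, hd, hdz⟩ := Groth.Agent.AbsFlat.exists_mul_eq_self D hz
    have hnil : IsNilpotent d := nilpotent_iff_mem_prime.2 fun Q hQ => hD Q hQ hd
    obtain ⟨n, hn⟩ := hnil
    have : ∀ k, d ^ k * z = z := fun k => by
      induction k with
      | zero => simp
      | succ k ih => rw [pow_succ, mul_assoc, hdz, ih]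
    rw [← this n, hn, zero_mul]
  have hb : Function.Bijective ((Algebra.linearMap A B).lTensor B) := by
    have hμ : ∀ z : B ⊗[A] A, μ ((Algebra.linearMap A B).lTensor B z) = TensorProduct.rid A B z := fun z => by
      induction z with
      | zero => simp
      | tmul x a => simp [μ, Algebra.smul_def, mul_comm]
      | add x y hx hy => simp only [map_add, hx, hy]
    refine ⟨(injective_iff_map_eq_zero _).2 fun z hz => (TensorProduct.rid A B).injective
      (by rw [← hμ, hz, map_zero, map_zero]), fun z => ?_⟩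
    refine ⟨μ z ⊗ₜ 1, ?_⟩
    rw [LinearMap.lTensor_tmul, Algebra.linearMap_apply, map_one]
    exact sub_eq_zero.1 (hzero _ (show μ _ = 0 by rw [map_sub]; simp [μ]))
  exact (Module.FaithfullyFlat.lTensor_bijective_iff_bijective A B (Algebra.linearMap A B)).1 hb

end GrothLib.Olivier
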