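import Groth.Agent.Lib.AbsFlat.Basic
import Mathlib.RingTheory.Valuation.LocalSubring
import Mathlib.RingTheory.Flat.Equalizer

/-!
# Idempotents of weakly étale algebras over normal domains
-/

set_option autoImplicit false

universe u

open TensorProduct

namespace GrothLib.Olivier

/-- Every finitely generated ideal is principal and annihilators of elements come from idempotents. -/
def PrincipalBase (W : Type u) [CommRing W] : Prop :=
  IsBezout W ∧ ∀ r : W, ∃ e : W, r * e = 0 ∧ ∀ j : W, r * j = 0 → e * j = j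

theorem smul_eq_self {W : Type u} [CommRing W] {M : Type u} [AddCommGroup M] [Module W M]
    [Module.Flat W M] {r e : W} (h1 : r * e = 0) (h2 : ∀ j : W, r * j = 0 → e * j = j) {m : M}
    (hm : r • m = 0) : e • m = m := by
  let f : W →ₗ[W] W := LinearMap.mulLeft W e
  let g : W →ₗ[W] W := LinearMap.mulLeft W r
  have he : e * e = e := h2 e h1
  have hex : Function.Exact f g := fun j => ⟨fun hj => ⟨j, h2 j hj⟩, fun ⟨y, hy⟩ => by
    rw [← hy]
    show r * (e * y) = 0
    rw [← mul_assoc, h1, zero_mul]⟩
  have h := Module.Flat.rTensor_exact M hex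
  have key : ∀ (φ : W) (z : W ⊗[W] M),
      TensorProduct.lid W M ((LinearMap.mulLeft W φ).rTensor M z) = φ • TensorProduct.lid W M z := by
    intro φ z
    induction z with
    | zero => simp
    | tmul a n => simp [mul_smul]
    | add x y hx hy => simp only [map_add, hx, hy, smul_add]
  obtain ⟨z, hz⟩ := (h ((TensorProduct.lid W M).symm m)).1 (by
    apply (TensorProduct.lid W M).injective
    rw [key, LinearEquiv.apply_symm_apply, hm, map_zero])
  have hz' := congrArg (TensorProduct.lid W M) hz
  rw [key, LinearEquiv.apply_symm_apply] at hz'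
  rw [← hz', ← mul_smul, he]

/-- Submodules of flat modules are flat. -/
theorem flat_submodule {W : Type u} [CommRing W] (hW : PrincipalBase W) {M : Type u} [AddCommGroup M]
    [Module W M] [Module.Flat W M] {N : Type u} [AddCommGroup N] [Module W N] (ι : N →ₗ[W] M)
    (hι : Function.Injective ι) : Module.Flat W N := by
  haveI := hW.1
  refine Module.Flat.iff_rTensor_injective.2 fun {I} hI => (injective_iff_map_eq_zero _).2 fun z hz => ?_
  obtain ⟨r, rfl⟩ := (IsBezout.isPrincipal_of_FG I hI).principal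
  let r' : Submodule.span W {r} := ⟨r, Submodule.mem_span_singleton_self r⟩
  obtain ⟨n, rfl⟩ : ∃ n, z = r' ⊗ₜ[W] n := by
    clear hz
    induction z with
    | zero => exact ⟨0, by simp⟩
    | tmul a n =>
      obtain ⟨c, hc⟩ := Submodule.mem_span_singleton.1 a.2
      refine ⟨c • n, ?_⟩
      rw [tmul_smul, smul_tmul']
      congr 1
      exact Subtype.ext hc.symm
    | add x y hx hy =>
      obtain ⟨a, rfl⟩ := hx
      obtain ⟨b, rfl⟩ := hy
      exact ⟨a + b, (tmul_add _ _ _).symm⟩
  obtain ⟨e, he1, he2⟩ := hW.2 r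
  have hrn : r • n = 0 := by
    have := congrArg (TensorProduct.lid W N) hz
    simpa [r'] using this
  have hen : e • n = n := hι (by
    rw [map_smul, smul_eq_self he1 he2 (by rw [← map_smul, hrn, map_zero])])
  rw [← hen, tmul_smul, smul_tmul', show e • r' = 0 from Subtype.ext (by simp [r', mul_comm e, he1]),
    zero_tmul]

/-- Over a principal base, weakly étale algebras have locally domains: `b (b - a) = 0` forces
`b ∈ (a)`. -/
theorem mem_span_of_mul_sub {W₀ W : Type u} [CommRing W₀] [CommRing W] [Algebra W₀ W]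
    [Algebra.WeaklyEtale W₀ W] (hW : PrincipalBase W₀) {a b : W} (h : b * (b - a) = 0) :
    ∃ w, b = a * w := by
  let φ : W →ₗ[W] W := LinearMap.toSpanSingleton W W b
  haveI : Module.Flat W₀ (LinearMap.range φ) :=
    flat_submodule hW ((LinearMap.range φ).subtype.restrictScalars W₀) Subtype.val_injective
  haveI : Module.Flat W (LinearMap.range φ) :=
    Groth.Agent.AbsFlat.flat_of_flat_lmul (Algebra.WeaklyEtale.flat_lmul' W₀ W) (LinearMap.range φ)
  let D : Ideal W := LinearMap.ker φ
  haveI : Module.Flat W (W ⧸ D) := Module.Flat.of_linearEquiv φ.quotKerEquivRange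
  have hmem : b - a ∈ D := by
    show φ (b - a) = 0
    rw [LinearMap.toSpanSingleton_apply, smul_eq_mul, mul_comm, h]
  obtain ⟨d, hd, hd'⟩ := Groth.Agent.AbsFlat.exists_mul_eq_self D hmem
  have hdb : d * b = 0 := hd
  exact ⟨1 - d, by linear_combination -hd' + hdb⟩

theorem principalBase_pi {ι : Type u} {K : Type u} [Field K] (V : ι → ValuationSubring K) :
    PrincipalBase (∀ i, V i) := by
  classical
  refine ⟨IsBezout.iff_span_pair_isPrincipal.2 fun x y => ?_, fun r => ?_⟩
  · let r : ∀ i, V i := fun i => if x i ∣ y i then x i else y i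
    have hx : ∀ i, r i ∣ x i := fun i => by
      by_cases h : x i ∣ y i
      · simp [r, h]
      · simp only [r, h, if_false]
        exact (ValuationRing.dvd_total (x i) (y i)).resolve_left h
    have hy : ∀ i, r i ∣ y i := fun i => by
      by_cases h : x i ∣ y i
      · simp [r, h]
      · simp [r, h]
    choose c hc using hx
    choose d hd using hy
    refine ⟨⟨r, le_antisymm (Ideal.span_le.2 ?_) ((Submodule.span_singleton_le_iff_mem _ _).2 ?_)⟩⟩
    · rintro z (rfl | rfl)
      · exact Ideal.mem_span_singleton'.2 ⟨c, funext fun i => by rw [Pi.mul_apply, mul_comm, ← hc]⟩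
      · exact Ideal.mem_span_singleton'.2 ⟨d, funext fun i => by rw [Pi.mul_apply, mul_comm, ← hd]⟩
    · refine Ideal.mem_span_pair.2 ⟨fun i => if x i ∣ y i then 1 else 0,
        fun i => if x i ∣ y i then 0 else 1, funext fun i => ?_⟩
      by_cases h : x i ∣ y i <;> simp [r, h]
  · refine ⟨fun i => if r i = 0 then 1 else 0, funext fun i => ?_, fun j hj => funext fun i => ?_⟩
    · by_cases h : r i = 0 <;> simp [h]
    · have hji : r i * j i = 0 := congrFun hj i
      by_cases h : r i = 0
      · simp [h]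
      · simp [h, (mul_eq_zero.1 hji).resolve_left h]

variable {A : Type u} [CommRing A] {K : Type u} [Field K] [Algebra A K]

/-- Over a normal subring of a field, `b² = a b` in a weakly étale base change forces `b ∈ (a)`. -/
theorem exists_eq_mul (S : Subalgebra A K) (hS : ∀ x : K, IsIntegral S x → x ∈ S) (B : Type u) [CommRing B]
    [Algebra A B] [Algebra.WeaklyEtale A B] {a : S} (ha : a ≠ 0) {b : S ⊗[A] B}
    (hb : b * b = (a ⊗ₜ[A] (1 : B)) * b) : ∃ b₀, b = (a ⊗ₜ[A] (1 : B)) * b₀ := by
  let ι := {V : ValuationSubring K // S.toSubring ≤ V.toSubring}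
  let φ : S →+* (∀ V : ι, V.1) :=
    Pi.ringHom fun V => (Subring.inclusion V.2 : S.toSubring →+* V.1.toSubring)
  letI : Algebra A (∀ V : ι, V.1) := (φ.comp (algebraMap A S)).toAlgebra
  let ψ : S →ₐ[A] (∀ V : ι, V.1) := { φ with commutes' := fun _ => rfl }
  let W₀ := ∀ V : ι, V.1
  let Φ : S ⊗[A] B →ₐ[A] W₀ ⊗[A] B := Algebra.TensorProduct.map ψ (AlgHom.id A B)
  let a' : W₀ ⊗[A] B := ψ a ⊗ₜ[A] (1 : B)
  have hΦa : Φ (a ⊗ₜ[A] (1 : B)) = a' := Algebra.TensorProduct.map_tmul _ _ _ _
  obtain ⟨w, hw⟩ := mem_span_of_mul_sub (W₀ := W₀) (principalBase_pi fun V : ι => V.1)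
    (a := a') (b := Φ b) (by rw [mul_sub, ← map_mul, hb, map_mul, hΦa, mul_comm, sub_self])
  let N : Submodule A W₀ := LinearMap.range (LinearMap.mulLeft A (ψ a))
  let g : S →ₗ[A] W₀ ⧸ N := N.mkQ.comp ψ.toLinearMap
  have hker : Function.Exact (LinearMap.mulLeft A a) g := by
    intro s
    constructor
    · intro hs
      obtain ⟨y, hy⟩ := (Submodule.Quotient.mk_eq_zero N).1 (show Submodule.Quotient.mk (ψ s) = 0 from hs)
      have hmem : ∀ V : ι, (s : K) / a ∈ V.1 := fun V => by
        have hV : (a : K) * (y V : K) = s := congrArg Subtype.val (congrFun hy V)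
        rw [← hV, mul_div_cancel_left₀ _ (fun h => ha (Subtype.ext h))]
        exact (y V).2
      haveI : IsIntegrallyClosedIn S.toSubring K :=
        isIntegrallyClosedIn_iff.2 ⟨Subtype.val_injective, fun {x} hx => ⟨⟨x, hS x hx⟩, rfl⟩⟩
      have hSmem : (s : K) / a ∈ S := by
        rw [← Subalgebra.mem_toSubring, Subring.eq_iInf_of_isIntegrallyClosedIn (R := S.toSubring),
          Subring.mem_iInf]
        exact fun V => hmem V
      exact ⟨⟨_, hSmem⟩, Subtype.ext (mul_div_cancel₀ _ fun h => ha (Subtype.ext h))⟩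
    · rintro ⟨t, rfl⟩
      exact (Submodule.Quotient.mk_eq_zero N).2 ⟨ψ t, (map_mul ψ a t).symm⟩
  have hgΦ : ∀ z : S ⊗[A] B, g.rTensor B z = N.mkQ.rTensor B (Φ z) := fun z => by
    induction z with
    | zero => simp
    | tmul s x => rfl
    | add x y hx hy => simp only [map_add, hx, hy]
  have hzero : ∀ z : W₀ ⊗[A] B, N.mkQ.rTensor B (a' * z) = 0 := fun z => by
    induction z with
    | zero => simp
    | tmul s x =>
      rw [Algebra.TensorProduct.tmul_mul_tmul, LinearMap.rTensor_tmul, Submodule.mkQ_apply,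
        (Submodule.Quotient.mk_eq_zero N).2 (⟨s, rfl⟩ : ψ a * s ∈ N), zero_tmul]
    | add x y hx hy => simp only [mul_add, map_add, hx, hy, add_zero]
  obtain ⟨z, hz⟩ := (Module.Flat.rTensor_exact B hker b).1 (by rw [hgΦ, hw, hzero])
  refine ⟨z, hz.symm.trans ?_⟩
  clear hz
  induction z with
  | zero => simp
  | tmul s x => simp [Algebra.TensorProduct.tmul_mul_tmul]
  | add x y hx hy => simp only [map_add, mul_add, hx, hy]

end GrothLib.Olivier
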